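import Groth.Agent.H83.Complete.Torsion
import Groth.Agent.H83.Quasi.Near
import Mathlib

/-! An element over an extension whose classes modulo all torsion ideals are defined over the base is defined over it. -/

set_option autoImplicit false

universe u

open TensorProduct

namespace Groth.Agent.H83.Complete

open MultType Quasi

theorem sum_single_coeff {S : Type u} [CommRing S] {P : Type u} [CommGroup P] (z : MonoidAlgebra S P) :
    z = ∑ t ∈ z.coeff.support, MonoidAlgebra.single t (coeffAt S t z) := by
  conv_lhs => rw [← z.sum_coeff_single]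
  rfl

set_option maxHeartbeats 800000 in
set_option synthInstance.maxHeartbeats 200000 in
theorem mem_range_of_forall_torsion {A : Type u} [CommRing A] {B : Type u} [CommRing B] [HopfAlgebra A B]
    {S : Type u} [CommRing S] [Algebra A S] [Module.FaithfullyFlat A S] {M : Type u} [CommGroup M] [Group.FG M]
    (e : (S ⊗[A] B) ≃ₐc[S] MonoidAlgebra S M) {T : Type u} [CommRing T] [Algebra A T] (x : T ⊗[A] B)
    (hx : ∀ n : ℕ, 0 < n → ∃ y : B, x - (1 : T) ⊗ₜ[A] y ∈
      (SGA3b.torsionIdeal A B n).map (Algebra.TensorProduct.includeRight : B →ₐ[A] T ⊗[A] B)) :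
    ∃ b : B, x = (1 : T) ⊗ₜ[A] b := by
  classical
  let U := S ⊗[A] T
  let f : S →ₐ[A] U := Algebra.TensorProduct.includeLeft
  let g : T →ₐ[A] U := Algebra.TensorProduct.includeRight
  obtain ⟨e', he'⟩ := exists_diag_map f e
  let z := e' (coeffMap g x)
  obtain ⟨N, hN, hsep⟩ := exists_exponent_avoiding ((z.coeff.support ×ˢ z.coeff.support).image fun q => q.1 / q.2)
  obtain ⟨y, hy⟩ := hx N hN
  have hmod : modPow U M N z = modPow U M N (coeffGroup f M (e ((1 : S) ⊗ₜ[A] y))) := by
    rw [← sub_eq_zero, ← map_sub, ← he', ← map_sub]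
    have h1 : coeffMap f ((1 : S) ⊗ₜ[A] y) = coeffMap g ((1 : T) ⊗ₜ[A] y) := by simp [coeffMap, f, g]
    rw [h1, ← map_sub]
    have h2 : ∀ w ∈ (SGA3b.torsionIdeal A B N).map (Algebra.TensorProduct.includeRight : B →ₐ[A] T ⊗[A] B),
        modPow U M N (e' (coeffMap g w)) = 0 := by
      intro w hw
      rw [Ideal.map] at hw
      induction hw using Submodule.span_induction with
      | mem v hv =>
        obtain ⟨b, hb, rfl⟩ := hv
        have : coeffMap g ((1 : T) ⊗ₜ[A] b) = (1 : U) ⊗ₜ[A] b := by simp [coeffMap, g]
        rw [Algebra.TensorProduct.includeRight_apply, this]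
        exact modPow_torsion (e' : (U ⊗[A] B) →ₐc[U] MonoidAlgebra U M) N hb
      | zero => simp
      | add p q _ _ hp hq => simp only [map_add, hp, hq, add_zero]
      | smul r p _ hp => rw [smul_eq_mul, map_mul, map_mul, map_mul, hp, mul_zero]
    exact h2 _ hy
  have hcoeff : ∀ t ∈ z.coeff.support, ∃ s : S, coeffAt U t z = f s := by
    intro t ht
    have hc : coeffAt U (QuotientGroup.mk t) (modPow U M N z) = coeffAt U t z := by
      conv_lhs => rw [sum_single_coeff z, map_sum, map_sum]
      rw [Finset.sum_eq_single t]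
      · rw [modPow_single, coeffAt_single, if_pos rfl]
      · intro t' ht' hne
        rw [modPow_single, coeffAt_single, if_neg]
        intro h
        refine hsep (t' / t) (Finset.mem_image.mpr ⟨(t', t), Finset.mem_product.mpr ⟨ht', ht⟩, rfl⟩)
          (div_ne_one.mpr hne) ?_
        rw [← QuotientGroup.eq_one_iff, QuotientGroup.mk_div, h, div_self']
      · exact fun h => absurd ht h
    let w := e ((1 : S) ⊗ₜ[A] y)
    refine ⟨coeffAt S (QuotientGroup.mk t) (modPow S M N w), ?_⟩
    rw [← hc, hmod, ← coeffAt_coeffGroup f]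
    congr 1
    show modPow U M N (coeffGroup f M w) = coeffGroup f _ (modPow S M N w)
    induction w using MonoidAlgebra.induction_linear with
    | zero => simp
    | add a b ha hb => simp only [map_add, ha, hb]
    | single p r => rw [coeffGroup_single, modPow_single, modPow_single, coeffGroup_single]
  choose! s hs using hcoeff
  let w' : MonoidAlgebra S M := ∑ t ∈ z.coeff.support, MonoidAlgebra.single t (s t)
  have hz : coeffMap g x = coeffMap f (e.symm w') := by
    apply EquivLike.injective e'
    rw [he', show e (e.symm w') = w' from e.apply_symm_apply _]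
    show z = _
    rw [map_sum]
    conv_lhs => rw [sum_single_coeff z]
    exact Finset.sum_congr rfl fun t ht => by rw [coeffGroup_single, hs t ht]
  -- descent along `A → S`
  let Θ : U ⊗[A] B →ₗ[A] S ⊗[A] (T ⊗[A] B) := (TensorProduct.assoc A S T B).toLinearMap
  let j : B →ₗ[A] T ⊗[A] B := TensorProduct.mk A T B 1
  have hg : ∀ v, Θ (coeffMap g v) = (1 : S) ⊗ₜ[A] v := fun v => by
    induction v using TensorProduct.induction_on with
    | zero => simp
    | add p q hp hq => rw [map_add, map_add, hp, hq, TensorProduct.tmul_add]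
    | tmul t b => exact TensorProduct.assoc_tmul (1 : S) t b
  have hf : ∀ v, Θ (coeffMap f v) = LinearMap.lTensor S j v := fun v => by
    induction v using TensorProduct.induction_on with
    | zero => simp
    | add p q hp hq => rw [map_add, map_add, hp, hq, map_add]
    | tmul t b => exact TensorProduct.assoc_tmul t (1 : T) b
  have h1 : (1 : S) ⊗ₜ[A] (LinearMap.range j).mkQ x = 0 := by
    rw [← LinearMap.lTensor_tmul, ← hg, hz, hf, ← LinearMap.comp_apply, ← LinearMap.lTensor_comp,
      show (LinearMap.range j).mkQ ∘ₗ j = 0 from LinearMap.range_mkQ_comp j, LinearMap.lTensor_zero, LinearMap.zero_apply]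
  have h2 : (LinearMap.range j).mkQ x = 0 :=
    Module.FaithfullyFlat.tensorProduct_mk_injective (A := A) (B := S) _ (h1.trans (TensorProduct.tmul_zero _ _).symm)
  obtain ⟨b, hb⟩ := (Submodule.Quotient.mk_eq_zero _).mp h2
  exact ⟨b, hb.symm⟩

end Groth.Agent.H83.Complete
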