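import Groth.Agent.H83.Complete.Descent
import Groth.Agent.Lib.OT67.MultLift
import Groth.Agent.Lib.OT67.OpenPart
import Groth.Agent.Lib.Henselian.HfpFinite
import Groth.Agent.S0504
import Groth.Agent.S2969
import Groth.Agent.S5242
import Groth.Agent.S2981
import Mathlib

/-! Finite parts of torsion subgroups over a henselian ring, and their completion. -/

set_option autoImplicit false

universe u

open TensorProduct IsLocalRing

namespace Groth.Agent.H83.Complete

open MultType

/-- Factorisation through a surjective homomorphism. -/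
theorem exists_factor {R : Type u} [CommRing R] {C P Q : Type u} [CommRing C] [HopfAlgebra R C] [CommRing P] [HopfAlgebra R P]
    [CommRing Q] [HopfAlgebra R Q] (f : C →ₐc[R] P) (h : C →ₐc[R] Q) (hf : Function.Surjective f)
    (hk : ∀ c, f c = 0 → h c = 0) : ∃ g : P →ₐc[R] Q, ∀ c, g (f c) = h c := by
  let I : Ideal C := RingHom.ker (f : C →ₐ[R] P)
  have hI : ∀ c : C, c ∈ I → (h : C →ₐ[R] Q) c = 0 := fun c hc => hk c hc
  let L₀ : (C ⧸ I) →ₐ[R] Q := Ideal.Quotient.liftₐ I (h : C →ₐ[R] Q) hI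
  let g₀ : P →ₐ[R] Q := L₀.comp
    (Ideal.quotientKerAlgEquivOfSurjective (f := (f : C →ₐ[R] P)) hf).symm.toAlgHom
  have hg : ∀ c, g₀ (f c) = h c := fun c => by
    show L₀ ((Ideal.quotientKerAlgEquivOfSurjective (f := (f : C →ₐ[R] P)) hf).symm (f c)) = _
    rw [show (Ideal.quotientKerAlgEquivOfSurjective (f := (f : C →ₐ[R] P)) hf).symm (f c) =
      Ideal.Quotient.mk _ c from (AlgEquiv.symm_apply_eq _).mpr rfl]
    rfl
  refine ⟨BialgHom.ofAlgHom g₀ ?_ ?_, hg⟩
  · refine AlgHom.ext fun p => ?_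
    obtain ⟨c, rfl⟩ := hf p
    show CoalgebraStruct.counit (R := R) (g₀ (f c)) = CoalgebraStruct.counit (R := R) (f c)
    rw [hg, CoalgHomClass.counit_comp_apply, CoalgHomClass.counit_comp_apply]
  · refine AlgHom.ext fun p => ?_
    obtain ⟨c, rfl⟩ := hf p
    show Algebra.TensorProduct.map g₀ g₀ (CoalgebraStruct.comul (R := R) (f c)) = CoalgebraStruct.comul (R := R) (g₀ (f c))
    rw [hg, ← CoalgHomClass.map_comp_comul_apply f, ← CoalgHomClass.map_comp_comul_apply h]
    generalize CoalgebraStruct.comul (R := R) c = z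
    induction z using TensorProduct.induction_on with
    | zero => simp
    | add a b ha hb => simp only [map_add, ha, hb]
    | tmul a b => simp [hg]

/-- Surjections with the same kernel. -/
theorem exists_equiv_of_ker {R : Type u} [CommRing R] {C P Q : Type u} [CommRing C] [HopfAlgebra R C] [CommRing P]
    [HopfAlgebra R P] [CommRing Q] [HopfAlgebra R Q] (f : C →ₐc[R] P) (h : C →ₐc[R] Q) (hf : Function.Surjective f)
    (hh : Function.Surjective h) (hk : ∀ c, f c = 0 ↔ h c = 0) : ∃ g : P ≃ₐc[R] Q, ∀ c, g (f c) = h c := by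
  obtain ⟨g, hg⟩ := exists_factor f h hf fun c => (hk c).mp
  refine ⟨BialgEquiv.ofBijective g ⟨fun a b hab => ?_, fun q => ?_⟩, hg⟩
  · obtain ⟨a, rfl⟩ := hf a
    obtain ⟨b, rfl⟩ := hf b
    rw [hg, hg, ← sub_eq_zero, ← map_sub, ← hk, map_sub, sub_eq_zero] at hab
    exact hab
  · obtain ⟨c, rfl⟩ := hh q
    exact ⟨f c, hg c⟩

theorem idem_eq_zero {T : Type u} [CommRing T] [IsLocalRing T] [IsNoetherianRing T] {P : Type u} [CommRing P] [Algebra T P]
    [Module.Finite T P] {e : P} (he : IsIdempotentElem e) (hm : e ∈ (maximalIdeal T).map (algebraMap T P)) : e = 0 := by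
  refine IsHausdorff.haus (inferInstance : IsHausdorff (maximalIdeal T) P) e fun n => ?_
  rw [SModEq.zero]
  have h : e ∈ ((maximalIdeal T) ^ n).map (algebraMap T P) := by
    rw [Ideal.map_pow]
    rcases Nat.eq_zero_or_pos n with rfl | hn
    · simp
    · have := Ideal.pow_mem_pow hm n
      rwa [he.pow_eq hn.ne'] at this
  rw [Ideal.smul_top_eq_map]
  exact h

/-- The residue field of a completion, over the ring. -/
theorem exists_residue (A : Type u) [CommRing A] [IsNoetherianRing A] [IsLocalRing A] :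
    ∃ ρ : AdicCompletion (maximalIdeal A) A →ₐ[A] ResidueField A,
      Function.Surjective ρ ∧ RingHom.ker ρ = maximalIdeal (AdicCompletion (maximalIdeal A) A) := by
  haveI := AdicCompletion.algebraMap_isLocalHom_of_fg (R := A) (maximalIdeal A).fg_of_isNoetherianRing
  let σ := RingEquiv.ofBijective _ (AdicCompletion.residueField_map_bijective A)
  let ρ : AdicCompletion (maximalIdeal A) A →ₐ[A] ResidueField A :=
    { (σ.symm : _ →+* ResidueField A).comp (residue (AdicCompletion (maximalIdeal A) A)) with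
      commutes' := fun a => by
        show σ.symm (residue _ (algebraMap A _ a)) = residue A a
        rw [RingEquiv.symm_apply_eq]
        exact (IsLocalRing.ResidueField.map_residue _ a).symm }
  refine ⟨ρ, fun y => ?_, ?_⟩
  · obtain ⟨x, hx⟩ := residue_surjective (σ y)
    exact ⟨x, show σ.symm (residue _ x) = y by rw [hx, RingEquiv.symm_apply_apply]⟩
  · ext x
    show σ.symm (residue _ x) = 0 ↔ _
    rw [map_eq_zero_iff _ σ.symm.injective, residue_eq_zero_iff]

theorem ker_coeffMap {A : Type u} [CommRing A] {T K : Type u} [CommRing T] [Algebra A T] [CommRing K] [Algebra A K]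
    {P : Type u} [CommRing P] [HopfAlgebra A P] (ρ : T →ₐ[A] K) (hρ : Function.Surjective ρ) (x : T ⊗[A] P)
    (hx : coeffMap ρ x = 0) : x ∈ (RingHom.ker ρ).map (algebraMap T (T ⊗[A] P)) := by
  have h : x ∈ RingHom.ker (Algebra.TensorProduct.map ρ (AlgHom.id A P)) := hx
  rw [Algebra.TensorProduct.map_ker _ _ hρ Function.surjective_id,
    show RingHom.ker (AlgHom.id A P) = ⊥ from (RingHom.injective_iff_ker_eq_bot _).mp Function.injective_id,
    Ideal.map_bot, sup_bot_eq] at h
  exact h

theorem flat_tensor_atPrime {A : Type u} [CommRing A] {C : Type u} [CommRing C] [Algebra A C] {T : Type u} [CommRing T]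
    [Algebra A T] (q : Ideal (T ⊗[A] C)) [q.IsPrime]
    (h : Module.Flat A (Localization.AtPrime (q.comap (Algebra.TensorProduct.includeRight : C →ₐ[A] T ⊗[A] C)))) :
    Module.Flat T (Localization.AtPrime q) := by
  let q₀ : Ideal C := q.comap (Algebra.TensorProduct.includeRight : C →ₐ[A] T ⊗[A] C)
  let Cq := Localization.AtPrime q₀
  let B₀ := T ⊗[A] Cq
  let L := Localization.AtPrime q
  let μ : T ⊗[A] C →ₐ[T] B₀ := Algebra.TensorProduct.map (AlgHom.id T T) (IsScalarTower.toAlgHom A C Cq)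
  letI : Algebra (T ⊗[A] C) B₀ := μ.toRingHom.toAlgebra
  haveI : IsScalarTower T (T ⊗[A] C) B₀ := IsScalarTower.of_algebraMap_eq fun t => (μ.commutes t).symm
  let N : Submonoid (T ⊗[A] C) := q₀.primeCompl.map (Algebra.TensorProduct.includeRight (R := A) (A := T))
  haveI : IsLocalization N B₀ := IsLocalization.tensorProduct_tensorProduct_right A T q₀.primeCompl Cq (by
    ext c; exact Algebra.TensorProduct.map_tmul _ _ _ _)
  have hN : ∀ y : N, IsUnit (algebraMap (T ⊗[A] C) L y) := by
    rintro ⟨_, c, hc, rfl⟩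
    exact IsLocalization.map_units L (⟨_, hc⟩ : q.primeCompl)
  letI : Algebra B₀ L := (IsLocalization.lift hN).toAlgebra
  haveI : IsScalarTower (T ⊗[A] C) B₀ L := IsScalarTower.of_algebraMap_eq fun x => (IsLocalization.lift_eq hN x).symm
  haveI : IsScalarTower T B₀ L := IsScalarTower.of_algebraMap_eq (R := T) (S := B₀) (A := L) fun t => by
    rw [IsScalarTower.algebraMap_apply T (T ⊗[A] C) L, ← μ.commutes]
    exact (IsLocalization.lift_eq hN _).symm
  haveI : Module.Flat (T ⊗[A] C) L := IsLocalization.flat L q.primeCompl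
  haveI : Module.Flat B₀ L := (Module.flat_iff_of_isLocalization B₀ N L).mpr inferInstance
  haveI : Module.Flat A Cq := h
  haveI : Module.Flat T B₀ := Module.Flat.baseChange A T Cq
  exact Module.Flat.trans T B₀ L

theorem isIsotrivial_of_field {K : Type u} [Field K] {D : Type u} [CommRing D] [HopfAlgebra K D]
    (hft : Algebra.FiniteType K D) (h : SGA3b.IsMultType K D) : SGA3b.IsIsotrivial K D := by
  obtain ⟨k', _, _, _, hsep, M, _, -, hM⟩ := Groth.Agent.S2969.result K D hft h
  haveI : Algebra.FormallyEtale K k' := Algebra.FormallyEtale.of_isSeparable K k'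
  haveI : Algebra.FinitePresentation K k' := Algebra.FinitePresentation.of_finiteType.mp inferInstance
  exact ⟨k', inferInstance, inferInstance, ⟨inferInstance, inferInstance⟩, inferInstance, inferInstance, M, inferInstance, hM⟩

theorem exists_equiv_baseChange {K : Type u} [CommRing K] {D D' : Type u} [CommRing D] [HopfAlgebra K D] [CommRing D']
    [HopfAlgebra K D'] (E : D ≃ₐc[K] D') (S : Type u) [CommRing S] [Algebra K S] :
    Nonempty ((S ⊗[K] D) ≃ₐc[S] (S ⊗[K] D')) := by
  let F : (S ⊗[K] D) →ₐc[S] S ⊗[K] D' := Bialgebra.TensorProduct.map (BialgHom.id S S) (E : D →ₐc[K] D')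
  let G : (S ⊗[K] D) ≃ₐ[S] S ⊗[K] D' := Algebra.TensorProduct.congr AlgEquiv.refl E.toAlgEquiv
  have hFG : (F : S ⊗[K] D → S ⊗[K] D') = G := by
    funext x
    induction x using TensorProduct.induction_on with
    | zero => simp
    | add a b ha hb => rw [map_add, map_add, ha, hb]
    | tmul t d => rfl
  exact ⟨BialgEquiv.ofBijective F (hFG ▸ G.bijective)⟩

theorem isIsotrivial_of_equiv {K : Type u} [Field K] {D D' : Type u} [CommRing D] [HopfAlgebra K D] [CommRing D']
    [HopfAlgebra K D'] (hft : Algebra.FiniteType K D) (E : D ≃ₐc[K] D') (h : SGA3b.IsMultType K D') :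
    SGA3b.IsIsotrivial K D :=
  isIsotrivial_of_field hft (Quasi.isMultType_of_equiv E (fun S _ _ => exists_equiv_baseChange E S) h)

set_option maxHeartbeats 1600000 in
set_option synthInstance.maxHeartbeats 200000 in
/-- The closed fibre over a completion is isotrivial. -/
theorem isIsotrivial_closedFibre (A : Type u) [CommRing A] [IsLocalRing A] (T : Type u) [CommRing T] [IsLocalRing T]
    [Algebra A T] [IsLocalHom (algebraMap A T)] {C : Type u} [CommRing C] [HopfAlgebra A C] (hft : Algebra.FiniteType A C)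
    (hs : SGA3b.IsMultType (ResidueField A) (ResidueField A ⊗[A] C)) :
    SGA3b.IsIsotrivial (T ⧸ maximalIdeal T) ((T ⧸ maximalIdeal T) ⊗[T] (T ⊗[A] C)) := by
  haveI := hft
  letI : Field (T ⧸ maximalIdeal T) := Ideal.Quotient.field _
  let K := T ⧸ maximalIdeal T
  let σ : ResidueField A →ₐ[A] K := Ideal.Quotient.liftₐ (maximalIdeal A) (Algebra.ofId A K) fun a ha => by
    show algebraMap A K a = 0
    rw [IsScalarTower.algebraMap_apply A T K, Ideal.Quotient.algebraMap_eq, Ideal.Quotient.eq_zero_iff_mem]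
    exact (IsLocalRing.mem_maximalIdeal _).mpr fun h => (IsLocalRing.mem_maximalIdeal _).mp ha (isUnit_of_map_unit (algebraMap A T) a h)
  letI : Algebra (ResidueField A) K := σ.toRingHom.toAlgebra
  haveI : IsScalarTower A (ResidueField A) K := IsScalarTower.of_algebraMap_eq fun a => (σ.commutes a).symm
  obtain ⟨U₁, -⟩ := exists_towerEquiv A (ResidueField A) K C
  obtain ⟨U₂, -⟩ := exists_towerEquiv A T K C
  let E : (K ⊗[T] (T ⊗[A] C)) ≃ₐc[K] K ⊗[ResidueField A] (ResidueField A ⊗[A] C) := U₂.symm.trans U₁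
  have hD : SGA3b.IsMultType K (K ⊗[ResidueField A] (ResidueField A ⊗[A] C)) := isMultType_baseChange K hs
  have hftK : Algebra.FiniteType K (K ⊗[T] (T ⊗[A] C)) := inferInstance
  exact isIsotrivial_of_equiv hftK E hD

set_option maxHeartbeats 1600000 in
set_option synthInstance.maxHeartbeats 200000 in
/-- The closed fibre of a torsion subgroup is finite. -/
theorem finite_torsion_fibre {A : Type u} [CommRing A] [IsLocalRing A] {C : Type u} [CommRing C] [HopfAlgebra A C]
    (hft : Algebra.FiniteType A C) (hs : SGA3b.IsMultType (ResidueField A) (ResidueField A ⊗[A] C)) (n : ℕ) (hn : 0 < n) :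
    Module.Finite A ((C ⧸ SGA3b.torsionIdeal A C n) ⧸
      (maximalIdeal A).map (algebraMap A (C ⧸ SGA3b.torsionIdeal A C n))) := by
  haveI := hft
  let k := ResidueField A
  let D := k ⊗[A] C
  haveI : Coalgebra.IsCocomm k D := Groth.Agent.Lib.OT67.MultLift.isCocomm hs
  haveI := Quasi.isHopfIdeal_torsionIdeal (R := k) (A := D) n
  haveI := (Groth.Agent.S5242.result k D inferInstance hs n hn _ rfl).2
  haveI : Module.Finite A k := Module.Finite.of_surjective (Algebra.linearMap A k) residue_surjective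
  haveI : Module.Finite A (D ⧸ SGA3b.torsionIdeal k D n) := Module.Finite.trans k _
  let Cn := C ⧸ SGA3b.torsionIdeal A C n
  let P := Cn ⧸ (maximalIdeal A).map (algebraMap A Cn)
  let a : k →ₐ[A] P := Ideal.Quotient.liftₐ (maximalIdeal A) (Algebra.ofId A P) fun x hx =>
    Ideal.Quotient.eq_zero_iff_mem.mpr (Ideal.mem_map_of_mem _ hx)
  let b : C →ₐ[A] P := (Ideal.Quotient.mkₐ A _).comp (Ideal.Quotient.mkₐ A _)
  let α : D →ₐ[A] P := Algebra.TensorProduct.lift a b fun _ _ => Commute.all _ _
  have hα : ∀ x ∈ SGA3b.torsionIdeal k D n, α x = 0 := by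
    intro x hx
    rw [torsion_baseChange] at hx
    refine (show (SGA3b.torsionIdeal A C n).map (Algebra.TensorProduct.includeRight : C →ₐ[A] D) ≤ RingHom.ker α from
      Ideal.map_le_iff_le_comap.mpr fun c hc => ?_) hx
    show α ((1 : k) ⊗ₜ[A] c) = 0
    rw [show α ((1 : k) ⊗ₜ[A] c) = a 1 * b c from Algebra.TensorProduct.lift_tmul _ _ _ _ _, map_one, one_mul]
    show Ideal.Quotient.mk _ (Ideal.Quotient.mk _ c) = 0
    rw [Ideal.Quotient.eq_zero_iff_mem.mpr hc, map_zero]
  refine Module.Finite.of_surjective (Ideal.Quotient.liftₐ ((SGA3b.torsionIdeal k D n)) α hα).toLinearMap fun y => ?_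
  obtain ⟨y, rfl⟩ := Ideal.Quotient.mk_surjective y
  obtain ⟨c, rfl⟩ := Ideal.Quotient.mk_surjective y
  refine ⟨Ideal.Quotient.mk _ ((1 : k) ⊗ₜ[A] c), ?_⟩
  show α ((1 : k) ⊗ₜ[A] c) = _
  rw [show α ((1 : k) ⊗ₜ[A] c) = a 1 * b c from Algebra.TensorProduct.lift_tmul _ _ _ _ _, map_one, one_mul]
  rfl

/-- The finite part of a torsion subgroup. -/
theorem exists_finite_part {A : Type u} [CommRing A] [HenselianLocalRing A] {C : Type u} [CommRing C] [Algebra A C]
    [Algebra.FiniteType A C] (J : Ideal C) [Module.Finite A ((C ⧸ J) ⧸ (maximalIdeal A).map (algebraMap A (C ⧸ J)))] :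
    ∃ ε : C, ε - ε * ε ∈ J ∧ ε ∈ (maximalIdeal A).map (algebraMap A C) ⊔ J ∧ Module.Finite A (C ⧸ (J ⊔ Ideal.span {ε})) := by
  let Cn := C ⧸ J
  let m := maximalIdeal A
  obtain ⟨e, he, hfinF, hqf⟩ := Groth.Agent.S0504.result A Cn
  let R' := Cn ⧸ Ideal.span ({e} : Set Cn)
  have htop : m.map (algebraMap A R') = ⊤ := by
    by_contra hne
    obtain ⟨q, hq, hle⟩ := Ideal.exists_le_maximal _ hne
    haveI := hq.isPrime
    haveI : q.LiesOver m := ⟨((IsLocalRing.maximalIdeal.isMaximal A).eq_of_le (Ideal.IsPrime.ne_top (inferInstance : (q.comap (algebraMap A R')).IsPrime))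
      (Ideal.map_le_iff_le_comap.mp hle))⟩
    haveI : Module.Finite A (R' ⧸ m.map (algebraMap A R')) := by
      let β : Cn →ₐ[A] R' ⧸ m.map (algebraMap A R') := (Ideal.Quotient.mkₐ A _).comp (Ideal.Quotient.mkₐ A _)
      refine Module.Finite.of_surjective (Ideal.Quotient.liftₐ (m.map (algebraMap A Cn)) β ?_).toLinearMap fun y => ?_
      · refine fun x hx => (show m.map (algebraMap A Cn) ≤ RingHom.ker β from Ideal.map_le_iff_le_comap.mpr fun a ha => ?_) hx
        show β (algebraMap A Cn a) = 0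
        rw [AlgHom.commutes, IsScalarTower.algebraMap_apply A R' (R' ⧸ m.map (algebraMap A R')), Ideal.Quotient.algebraMap_eq,
          Ideal.Quotient.eq_zero_iff_mem]
        exact Ideal.mem_map_of_mem _ ha
      · obtain ⟨y, rfl⟩ := Ideal.Quotient.mk_surjective y
        obtain ⟨y, rfl⟩ := Ideal.Quotient.mk_surjective y
        exact ⟨Ideal.Quotient.mk _ y, rfl⟩
    exact hqf q inferInstance (Groth.Agent.Lib.Henselian.HfpFinite.quasiFiniteAt_of_finite_quotient m R' ⟨q, hq.isPrime⟩ hle)
  have h1 : (1 : Cn) ∈ m.map (algebraMap A Cn) ⊔ Ideal.span {e} := by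
    have h : (1 : R') ∈ (m.map (algebraMap A Cn)).map (Ideal.Quotient.mk (Ideal.span {e})) := by
      rw [Ideal.map_map, show (Ideal.Quotient.mk (Ideal.span {e})).comp (algebraMap A Cn) = algebraMap A R' from rfl, htop]
      trivial
    obtain ⟨x, hx, hxe⟩ := (Ideal.mem_map_iff_of_surjective _ Ideal.Quotient.mk_surjective).mp h
    rw [← map_one (Ideal.Quotient.mk (Ideal.span ({e} : Set Cn))), Ideal.Quotient.mk_eq_mk_iff_sub_mem] at hxe
    exact Submodule.mem_sup.mpr ⟨x, hx, 1 - x, by rw [← neg_sub]; exact neg_mem hxe, by ring⟩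
  obtain ⟨e₀, he₀⟩ := Ideal.Quotient.mk_surjective e
  refine ⟨1 - e₀, ?_, ?_, ?_⟩
  · rw [← Ideal.Quotient.eq_zero_iff_mem]
    simp only [map_sub, map_mul, map_one, he₀]
    have := he.one_sub.eq
    rw [this, sub_self]
  · have hmem : (1 - e) ∈ m.map (algebraMap A Cn) := by
      obtain ⟨x, hx, y, hy, hxy⟩ := Submodule.mem_sup.mp h1
      obtain ⟨r, rfl⟩ := Ideal.mem_span_singleton'.mp hy
      have : (1 - e) * x = 1 - e := by
        have := congrArg (fun z => (1 - e) * z) hxy
        simp only [mul_add, mul_one] at this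
        rwa [mul_left_comm (1 - e) r e, show (1 - e) * e = 0 by rw [sub_mul, one_mul, he.eq, sub_self], mul_zero, add_zero] at this
      rw [← this]
      exact Ideal.mul_mem_left _ _ hx
    rw [show algebraMap A Cn = (Ideal.Quotient.mk J).comp (algebraMap A C) from rfl, ← Ideal.map_map] at hmem
    obtain ⟨x, hx, hxe⟩ := (Ideal.mem_map_iff_of_surjective _ Ideal.Quotient.mk_surjective).mp hmem
    rw [show (1 : Cn) - e = Ideal.Quotient.mk J (1 - e₀) by rw [map_sub, map_one, he₀], Ideal.Quotient.mk_eq_mk_iff_sub_mem] at hxe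
    exact Submodule.mem_sup.mpr ⟨x, hx, (1 - e₀) - x, by rw [← neg_sub]; exact neg_mem hxe, by ring⟩
  · haveI := hfinF
    have E : (Cn ⧸ Ideal.span ({1 - e} : Set Cn)) ≃ₐ[A] C ⧸ (J ⊔ Ideal.span {1 - e₀}) := by
      refine (Ideal.quotientEquivAlgOfEq A ?_).trans (DoubleQuot.quotQuotEquivQuotSupₐ A J (Ideal.span {1 - e₀}))
      rw [Ideal.map_span, Set.image_singleton]
      simp [he₀, Cn]
    exact Module.Finite.equiv E.toLinearEquiv

end Groth.Agent.H83.Complete
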