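import Groth.Agent.H83.Complete.FinitePart
import Groth.Agent.S2974
import Groth.Agent.S2985
import Groth.Agent.S5262
import Groth.Agent.S5285
import Mathlib

/-! Descent of homomorphisms from a completion. -/

set_option autoImplicit false

universe u

open TensorProduct IsLocalRing

namespace Groth.Agent.H83.Complete

open MultType

theorem ker_map_mk {A : Type u} [CommRing A] {B : Type u} [CommRing B] [Algebra A B] (J : Ideal B) (T : Type u) [CommRing T]
    [Algebra A T] (x : T ⊗[A] B) :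
    Algebra.TensorProduct.map (AlgHom.id T T) (Ideal.Quotient.mkₐ A J) x = 0 ↔
      x ∈ J.map (Algebra.TensorProduct.includeRight : B →ₐ[A] T ⊗[A] B) := by
  rw [← RingHom.mem_ker, Algebra.TensorProduct.map_ker _ _ Function.surjective_id Ideal.Quotient.mk_surjective,
    show RingHom.ker (AlgHom.id T T) = ⊥ from (RingHom.injective_iff_ker_eq_bot _).mp Function.injective_id,
    Ideal.map_bot, bot_sup_eq, show RingHom.ker (Ideal.Quotient.mkₐ A J) = J from Ideal.Quotient.mkₐ_ker A J]

/-- The reduction of `T ⊗ B` modulo an ideal of `B`, as a homomorphism of bialgebras. -/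
noncomputable def quotHom {A : Type u} [CommRing A] {B : Type u} [CommRing B] [HopfAlgebra A B] (J : Ideal B)
    [J.IsHopfIdeal A] (T : Type u) [CommRing T] [Algebra A T] : (T ⊗[A] B) →ₐc[T] T ⊗[A] (B ⧸ J) :=
  Bialgebra.TensorProduct.map (BialgHom.id T T) (Bialgebra.Quotient.mkBialgHom (R := A) J)

theorem quotHom_tmul {A : Type u} [CommRing A] {B : Type u} [CommRing B] [HopfAlgebra A B] (J : Ideal B)
    [J.IsHopfIdeal A] (T : Type u) [CommRing T] [Algebra A T] (t : T) (b : B) :
    quotHom J T (t ⊗ₜ[A] b) = t ⊗ₜ[A] Ideal.Quotient.mk J b := by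
  simp [quotHom]

theorem quotHom_eq {A : Type u} [CommRing A] {B : Type u} [CommRing B] [HopfAlgebra A B] (J : Ideal B)
    [J.IsHopfIdeal A] (T : Type u) [CommRing T] [Algebra A T] (x : T ⊗[A] B) :
    quotHom J T x = Algebra.TensorProduct.map (AlgHom.id T T) (Ideal.Quotient.mkₐ A J) x := by
  induction x using TensorProduct.induction_on with
  | zero => simp
  | add a b ha hb => rw [map_add, map_add, ha, hb]
  | tmul t b => rw [quotHom_tmul]; simp

theorem quotHom_surjective {A : Type u} [CommRing A] {B : Type u} [CommRing B] [HopfAlgebra A B] (J : Ideal B)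
    [J.IsHopfIdeal A] (T : Type u) [CommRing T] [Algebra A T] : Function.Surjective (quotHom (A := A) J T) := by
  intro y
  induction y using TensorProduct.induction_on with
  | zero => exact ⟨0, map_zero _⟩
  | add a b ha hb => obtain ⟨a, rfl⟩ := ha; obtain ⟨b, rfl⟩ := hb; exact ⟨a + b, map_add _ _ _⟩
  | tmul t b => obtain ⟨b, rfl⟩ := Ideal.Quotient.mk_surjective b; exact ⟨t ⊗ₜ[A] b, quotHom_tmul (A := A) J T t b⟩

/-- Elements of an ideal extended to an extension, when faithfully flat. -/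
theorem mem_of_tmul_mem {A : Type u} [CommRing A] {B : Type u} [CommRing B] [Algebra A B] (J : Ideal B) (T : Type u)
    [CommRing T] [Algebra A T] [Module.FaithfullyFlat A T] {b : B}
    (h : (1 : T) ⊗ₜ[A] b ∈ J.map (Algebra.TensorProduct.includeRight : B →ₐ[A] T ⊗[A] B)) : b ∈ J := by
  rw [← ker_map_mk, Algebra.TensorProduct.map_tmul, map_one] at h
  exact Ideal.Quotient.eq_zero_iff_mem.mp
    (Module.FaithfullyFlat.tensorProduct_mk_injective (A := A) (B := T) _ (h.trans (TensorProduct.tmul_zero _ _).symm))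

theorem map_zero_of_mult {T : Type u} [CommRing T] {P : Type u} [CommRing P] [Algebra T P] {Q : Type u} [CommRing Q]
    [Algebra T Q] (f : P →ₐ[T] Q) (I : Ideal T) {x : P} (hx : x ∈ I.map (algebraMap T P)) :
    f x ∈ I.map (algebraMap T Q) := by
  have := Ideal.mem_map_of_mem (f : P →+* Q) hx
  rwa [Ideal.map_map, show (f : P →+* Q).comp (algebraMap T P) = algebraMap T Q from f.comp_algebraMap] at this

set_option maxHeartbeats 1600000 in
set_option synthInstance.maxHeartbeats 200000 in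
/-- A homomorphism kills an idempotent of the ideal of the closed fibre. -/
theorem map_idem_eq_zero {A : Type u} [CommRing A] [IsLocalRing A] {T : Type u} [CommRing T] [IsLocalRing T]
    [IsNoetherianRing T] [Algebra A T] [Module.FaithfullyFlat A T]
    {B : Type u} [CommRing B] [HopfAlgebra A B] (hBft : Algebra.FiniteType A B) (hB : SGA3b.IsMultType A B)
    {SB : Type u} [CommRing SB] [Algebra A SB] [Module.FaithfullyFlat A SB] {M : Type u} [CommGroup M] [Group.FG M]
    (eB : (SB ⊗[A] B) ≃ₐc[SB] MonoidAlgebra SB M)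
    {C' : Type u} [CommRing C'] [Algebra T C'] (φ : C' →ₐ[T] T ⊗[A] B) {e : C'} (he : IsIdempotentElem e)
    (hem : e ∈ (maximalIdeal T).map (algebraMap T C')) : φ e = 0 := by
  haveI : Coalgebra.IsCocomm A B := Groth.Agent.Lib.OT67.MultLift.isCocomm hB
  have hmem : ∀ n, 0 < n → φ e ∈ (SGA3b.torsionIdeal A B n).map (Algebra.TensorProduct.includeRight : B →ₐ[A] T ⊗[A] B) := by
    intro n hn
    haveI := Quasi.isHopfIdeal_torsionIdeal (R := A) (A := B) n
    haveI := (Groth.Agent.S5242.result A B hBft hB n hn _ rfl).2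
    let π : T ⊗[A] B →ₐ[T] T ⊗[A] (B ⧸ SGA3b.torsionIdeal A B n) :=
      Algebra.TensorProduct.map (AlgHom.id T T) (Ideal.Quotient.mkₐ A _)
    rw [← ker_map_mk]
    exact idem_eq_zero (T := T) ((he.map φ).map π) (map_zero_of_mult π _ (map_zero_of_mult φ _ hem))
  obtain ⟨b, hb⟩ := mem_range_of_forall_torsion eB (φ e) fun n hn => ⟨0, by simpa using hmem n hn⟩
  rw [hb] at hmem ⊢
  have h1 := iInf_torsionIdeal hBft hB (1 : B)
  have h2 : algebraMap B (Localization.Away (1 : B)) b = 0 := by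
    rw [← Ideal.mem_bot, ← h1, Submodule.mem_iInf]
    rintro ⟨n, hn⟩
    exact Ideal.mem_map_of_mem _ (mem_of_tmul_mem _ T (hmem n hn))
  obtain ⟨⟨_, k, rfl⟩, hk⟩ := (IsLocalization.map_eq_zero_iff (Submonoid.powers (1 : B)) _ b).mp h2
  rw [show b = 0 by simpa using hk, TensorProduct.tmul_zero]

set_option maxHeartbeats 1600000 in
set_option synthInstance.maxHeartbeats 200000 in
/-- The kernel of the map to the torsion of the open and closed subgroup is defined over the henselian ring. -/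
theorem exists_descended_kernel {A : Type u} [CommRing A] [HenselianLocalRing A] {T : Type u} [CommRing T] [IsLocalRing T]
    [IsNoetherianRing T] [Algebra A T] [IsLocalHom (algebraMap A T)] [Module.FaithfullyFlat A T]
    {C : Type u} [CommRing C] [HopfAlgebra A C] (hft : Algebra.FiniteType A C)
    (hs : SGA3b.IsMultType (ResidueField A) (ResidueField A ⊗[A] C))
    (e : T ⊗[A] C) (he : IsIdempotentElem e) (hem : e ∈ (maximalIdeal T).map (algebraMap T (T ⊗[A] C)))
    [(Ideal.span {e}).IsHopfIdeal T] (hQ : SGA3b.IsMultType T ((T ⊗[A] C) ⧸ Ideal.span {e})) (n : ℕ) (hn : 0 < n) :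
    ∃ a : Ideal C, Module.Finite A (C ⧸ a) ∧
      a.map (Algebra.TensorProduct.includeRight : C →ₐ[A] T ⊗[A] C) ≤
        (SGA3b.torsionIdeal A C n).map (Algebra.TensorProduct.includeRight : C →ₐ[A] T ⊗[A] C) ⊔ Ideal.span {e} ∧
      ∀ x, x ∈ a.map (Algebra.TensorProduct.includeRight : C →ₐ[A] T ⊗[A] C) ↔
        Ideal.Quotient.mk (Ideal.span {e}) x ∈ SGA3b.torsionIdeal T ((T ⊗[A] C) ⧸ Ideal.span {e}) n := by
  haveI := hft
  haveI := finite_torsion_fibre hft hs n hn
  obtain ⟨ε, hεi, hεm, hfin⟩ := exists_finite_part (A := A) (SGA3b.torsionIdeal A C n)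
  let C' := T ⊗[A] C
  let ι : C →ₐ[A] C' := Algebra.TensorProduct.includeRight
  let a : Ideal C := SGA3b.torsionIdeal A C n ⊔ Ideal.span {ε}
  let Q := C' ⧸ Ideal.span {e}
  let q : C' →ₐc[T] Q := Bialgebra.Quotient.mkBialgHom (R := T) (Ideal.span {e})
  have hJQ : SGA3b.torsionIdeal T Q n = ((SGA3b.torsionIdeal A C n).map ι).map (Ideal.Quotient.mk (Ideal.span {e})) := by
    rw [torsion_map_surjective q Ideal.Quotient.mk_surjective n, torsion_baseChange]
    rfl
  haveI : Coalgebra.IsCocomm T Q := Groth.Agent.Lib.OT67.MultLift.isCocomm hQ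
  haveI := Quasi.isHopfIdeal_torsionIdeal (R := T) (A := Q) n
  haveI : Algebra.FiniteType T Q := inferInstance
  haveI := (Groth.Agent.S5242.result T Q inferInstance hQ n hn _ rfl).2
  let P := Q ⧸ SGA3b.torsionIdeal T Q n
  let κ : C' →ₐ[T] P := (Ideal.Quotient.mkₐ T _).comp (Ideal.Quotient.mkₐ T _)
  have hJ0 : ∀ x ∈ SGA3b.torsionIdeal A C n, κ (ι x) = 0 := fun x hx =>
    Ideal.Quotient.eq_zero_iff_mem.mpr (hJQ ▸ Ideal.mem_map_of_mem _ (Ideal.mem_map_of_mem _ hx))
  have hε0 : κ (ι ε) = 0 := by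
    refine idem_eq_zero (T := T) ?_ ?_
    · show κ (ι ε) * κ (ι ε) = κ (ι ε)
      rw [← map_mul, ← map_mul, eq_comm, ← sub_eq_zero, ← map_sub, ← map_sub]
      exact hJ0 _ hεi
    · obtain ⟨x, hx, y, hy, rfl⟩ := Submodule.mem_sup.mp hεm
      rw [map_add, map_add, hJ0 y hy, add_zero]
      refine map_zero_of_mult κ _ ?_
      have h1 : ι x ∈ ((maximalIdeal A).map (algebraMap A T)).map (algebraMap T C') := by
        rw [Ideal.map_map, ← IsScalarTower.algebraMap_eq]
        have := Ideal.mem_map_of_mem (ι : C →+* C') hx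
        rwa [Ideal.map_map, show (ι : C →+* C').comp (algebraMap A C) = algebraMap A C' from ι.comp_algebraMap] at this
      have hmT : (maximalIdeal A).map (algebraMap A T) ≤ maximalIdeal T := Ideal.map_le_iff_le_comap.mpr fun r hr =>
        (IsLocalRing.mem_maximalIdeal _).mpr fun hu => (IsLocalRing.mem_maximalIdeal _).mp hr (isUnit_of_map_unit (algebraMap A T) r hu)
      exact Ideal.map_mono hmT h1
  have hle : a.map ι ≤ RingHom.ker κ := by
    rw [Ideal.map_le_iff_le_comap, sup_le_iff, Ideal.span_le, Set.singleton_subset_iff]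
    exact ⟨fun x hx => hJ0 x hx, hε0⟩
  have heq : RingHom.ker κ ≤ (SGA3b.torsionIdeal A C n).map ι ⊔ Ideal.span {e} := by
    intro x hx
    have h : Ideal.Quotient.mk (Ideal.span {e}) x ∈ ((SGA3b.torsionIdeal A C n).map ι).map (Ideal.Quotient.mk (Ideal.span {e})) :=
      hJQ ▸ Ideal.Quotient.eq_zero_iff_mem.mp hx
    rw [← Ideal.mem_comap, Ideal.comap_map_of_surjective _ Ideal.Quotient.mk_surjective, ← RingHom.ker_eq_comap_bot,
      Ideal.mk_ker] at h
    exact h
  have hea : e ∈ a.map ι := by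
    rw [← ker_map_mk]
    haveI := hfin
    exact idem_eq_zero (T := T) (he.map (Algebra.TensorProduct.map (AlgHom.id T T) (Ideal.Quotient.mkₐ A a)))
      (map_zero_of_mult _ _ hem)
  refine ⟨a, hfin, hle.trans heq, fun x => ⟨fun hx => Ideal.Quotient.eq_zero_iff_mem.mp (hle hx), fun hx => ?_⟩⟩
  have h := heq (Ideal.Quotient.eq_zero_iff_mem.mpr hx : κ x = 0)
  refine (sup_le (Ideal.map_mono le_sup_left) ?_ : _ ≤ a.map ι) h
  rw [Ideal.span_le, Set.singleton_subset_iff]
  exact hea

set_option maxHeartbeats 1600000 in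
set_option synthInstance.maxHeartbeats 200000 in
/-- Two homomorphisms of finite groups over an extension agree, if their reductions do. -/
theorem apply_eq_of_reduction {A : Type u} [CommRing A] [IsLocalRing A] {T : Type u} [CommRing T] [IsLocalRing T]
    [IsNoetherianRing T] [Algebra A T] (ρ : T →ₐ[A] ResidueField A) (hρs : Function.Surjective ρ)
    (hρk : RingHom.ker ρ = maximalIdeal T)
    {F : Type u} [CommRing F] [HopfAlgebra A F] [Coalgebra.IsCocomm A F] [Module.Finite A F]
    {D : Type u} [CommRing D] [HopfAlgebra A D] [Module.Finite A D] (hD : SGA3b.IsMultType A D)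
    (g : (T ⊗[A] F) →ₐc[T] T ⊗[A] D) (ψ : F →ₐc[A] D)
    (h : ∀ c, coeffMap ρ (g ((1 : T) ⊗ₜ[A] c)) = (1 : ResidueField A) ⊗ₜ[A] ψ c) (c : F) :
    g ((1 : T) ⊗ₜ[A] c) = (1 : T) ⊗ₜ[A] ψ c := by
  haveI : Algebra.FiniteType T (T ⊗[A] D) := inferInstance
  haveI : Algebra.FinitePresentation T (T ⊗[A] F) := Algebra.FinitePresentation.of_finiteType.mp inferInstance
  let g' : (T ⊗[A] F) →ₐc[T] T ⊗[A] D := Bialgebra.TensorProduct.map (BialgHom.id T T) ψ
  have hg : g = g' := by
    refine Groth.Agent.S2985.result T (T ⊗[A] D) inferInstance (isMultType_baseChange T hD) (T ⊗[A] F) inferInstance g g' ?_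
    intro z
    rw [← hρk]
    induction z using TensorProduct.induction_on with
    | zero => simp
    | add p q hp hq => rw [map_add, map_add, add_sub_add_comm]; exact add_mem hp hq
    | tmul t f =>
      rw [show t ⊗ₜ[A] f = t • ((1 : T) ⊗ₜ[A] f) by rw [TensorProduct.smul_tmul', smul_eq_mul, mul_one], map_smul, map_smul,
        ← smul_sub]
      refine Submodule.smul_of_tower_mem _ t (ker_coeffMap ρ hρs _ ?_)
      rw [map_sub, h, show g' ((1 : T) ⊗ₜ[A] f) = (1 : T) ⊗ₜ[A] ψ f from Bialgebra.TensorProduct.map_tmul _ _ _ _,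
        coeffMap_tmul, map_one, sub_self]
  rw [hg]
  exact Bialgebra.TensorProduct.map_tmul _ _ _ _

set_option maxHeartbeats 1600000 in
set_option synthInstance.maxHeartbeats 200000 in
/-- Modulo torsion, a homomorphism over the completion is defined over the ring. -/
theorem exists_descend_torsion {A : Type u} [CommRing A] [IsNoetherianRing A] [HenselianLocalRing A] {T : Type u} [CommRing T]
    [IsLocalRing T] [IsNoetherianRing T] [Algebra A T] [IsLocalHom (algebraMap A T)] [Module.FaithfullyFlat A T]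
    (ρ : T →ₐ[A] ResidueField A) (hρs : Function.Surjective ρ) (hρk : RingHom.ker ρ = maximalIdeal T)
    {B : Type u} [CommRing B] [HopfAlgebra A B] (hBft : Algebra.FiniteType A B) (hB : SGA3b.IsMultType A B)
    {C : Type u} [CommRing C] [HopfAlgebra A C] (hft : Algebra.FiniteType A C)
    (hs : SGA3b.IsMultType (ResidueField A) (ResidueField A ⊗[A] C))
    (e : T ⊗[A] C) (he : IsIdempotentElem e) (hem : e ∈ (maximalIdeal T).map (algebraMap T (T ⊗[A] C)))
    [(Ideal.span {e}).IsHopfIdeal T] (hQ : SGA3b.IsIsotrivial T ((T ⊗[A] C) ⧸ Ideal.span {e}))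
    (φ : (T ⊗[A] C) →ₐc[T] T ⊗[A] B) (hφe : φ e = 0) (n : ℕ) (hn : 0 < n) (c : C) :
    ∃ y : B, φ ((1 : T) ⊗ₜ[A] c) - (1 : T) ⊗ₜ[A] y ∈
      (SGA3b.torsionIdeal A B n).map (Algebra.TensorProduct.includeRight : B →ₐ[A] T ⊗[A] B) := by
  haveI := hft
  let C' := T ⊗[A] C
  let Q := C' ⧸ Ideal.span {e}
  obtain ⟨S, _, _, _, _, hffS, M, _, ⟨d⟩⟩ := hQ
  haveI := hffS
  have hQM : SGA3b.IsMultType T Q := isMultType_of_diag S ⟨M, inferInstance, ⟨d⟩⟩
  obtain ⟨a, hfin, hale, hmem⟩ := exists_descended_kernel hft hs e he hem hQM n hn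
  haveI := hfin
  haveI : Coalgebra.IsCocomm T Q := Groth.Agent.Lib.OT67.MultLift.isCocomm hQM
  haveI := Quasi.isHopfIdeal_torsionIdeal (R := T) (A := Q) n
  let P := Q ⧸ SGA3b.torsionIdeal T Q n
  let κ : C' →ₐc[T] P := (Bialgebra.Quotient.mkBialgHom (R := T) (SGA3b.torsionIdeal T Q n)).comp
    (Bialgebra.Quotient.mkBialgHom (R := T) (Ideal.span {e}))
  have hκs : Function.Surjective κ := fun y => by
    obtain ⟨y, rfl⟩ := Ideal.Quotient.mk_surjective y
    obtain ⟨y, rfl⟩ := Ideal.Quotient.mk_surjective y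
    exact ⟨y, rfl⟩
  have hκ : ∀ x, x ∈ a.map (Algebra.TensorProduct.includeRight : C →ₐ[A] C') ↔ κ x = 0 := fun x =>
    (hmem x).trans Ideal.Quotient.eq_zero_iff_mem.symm
  haveI : (RingHom.ker (κ : C' →ₐ[T] P)).IsHopfIdeal T := Groth.Agent.Lib.OT67.OpenPart.isHopfIdeal_ker hκs
  haveI : a.IsHopfIdeal A := isHopfIdeal_descent T a (RingHom.ker (κ : C' →ₐ[T] P))
    (Ideal.ext fun x => (hκ x).symm)
  obtain ⟨E, -⟩ := exists_equiv_of_ker κ (quotHom a T) hκs (quotHom_surjective a T) fun x => by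
    rw [quotHom_eq, ker_map_mk, hκ]
  letI : Algebra A S := Algebra.compHom S (algebraMap A T)
  haveI : IsScalarTower A T S := IsScalarTower.of_algebraMap_eq fun _ => rfl
  haveI : Module.FaithfullyFlat A S := Module.FaithfullyFlat.trans A T S
  obtain ⟨E₁, -⟩ := Quasi.exists_quotEquiv d n (SGA3b.torsionIdeal T Q n) rfl
  obtain ⟨E₂⟩ := exists_equiv_baseChange E S
  obtain ⟨U, -⟩ := exists_towerEquiv A T S (C ⧸ a)
  have hF : SGA3b.IsMultType A (C ⧸ a) :=
    isMultType_of_diag S ⟨_, inferInstance, ⟨U.trans (E₂.symm.trans E₁)⟩⟩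
  haveI : Coalgebra.IsCocomm A (C ⧸ a) := Groth.Agent.Lib.OT67.MultLift.isCocomm hF
  haveI : Coalgebra.IsCocomm A B := Groth.Agent.Lib.OT67.MultLift.isCocomm hB
  haveI := Quasi.isHopfIdeal_torsionIdeal (R := A) (A := B) n
  obtain ⟨hDM, hDf⟩ := Groth.Agent.S5242.result A B hBft hB n hn _ rfl
  haveI := hDf
  let h : C' →ₐc[T] T ⊗[A] (B ⧸ SGA3b.torsionIdeal A B n) := (quotHom _ T).comp φ
  have hh : ∀ x, quotHom a T x = 0 → h x = 0 := by
    intro x hx
    rw [quotHom_eq, ker_map_mk] at hx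
    refine (show _ ≤ RingHom.ker (h : C' →ₐ[T] T ⊗[A] (B ⧸ SGA3b.torsionIdeal A B n)) from hale.trans (sup_le ?_ ?_)) hx
    · intro z hz
      rw [← torsion_baseChange] at hz
      have h1 : φ z ∈ SGA3b.torsionIdeal T (T ⊗[A] B) n := map_torsion_le φ n (Ideal.mem_map_of_mem _ hz)
      rw [torsion_baseChange, ← ker_map_mk] at h1
      show quotHom _ T (φ z) = 0
      rw [quotHom_eq, h1]
    · rw [Ideal.span_le, Set.singleton_subset_iff]
      show quotHom _ T (φ e) = 0
      rw [hφe, map_zero]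
  obtain ⟨g, hg⟩ := exists_factor (quotHom a T) h (quotHom_surjective a T) hh
  obtain ⟨φ₀, hφ₀⟩ := exists_hom_baseChange ρ g
  obtain ⟨ψ, hψ⟩ := (Groth.Agent.S5262.result A (B ⧸ SGA3b.torsionIdeal A B n) hDM (C ⧸ a) hF).2 φ₀
  have hfinal := apply_eq_of_reduction ρ hρs hρk hDM g ψ (fun f => (hφ₀ f).symm.trans (hψ f)) (Ideal.Quotient.mk a c)
  obtain ⟨y, hy⟩ := Ideal.Quotient.mk_surjective (ψ (Ideal.Quotient.mk a c))
  refine ⟨y, ?_⟩
  rw [← ker_map_mk, ← quotHom_eq, map_sub, sub_eq_zero, quotHom_tmul, hy, ← hfinal, ← quotHom_tmul, hg]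
  rfl

theorem one_tmul_injective {A : Type u} [CommRing A] (T : Type u) [CommRing T] [Algebra A T] [Module.FaithfullyFlat A T]
    {N : Type u} [AddCommGroup N] [Module A N] {x y : N} (h : (1 : T) ⊗ₜ[A] x = (1 : T) ⊗ₜ[A] y) : x = y :=
  Module.FaithfullyFlat.tensorProduct_mk_injective (A := A) (B := T) N h

/-- A homomorphism over a faithfully flat extension with values over the base comes from the base. -/
theorem exists_bialgHom_of_values {A : Type u} [CommRing A] {T : Type u} [CommRing T] [Algebra A T] [Module.FaithfullyFlat A T]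
    {B C : Type u} [CommRing B] [HopfAlgebra A B] [CommRing C] [HopfAlgebra A C] (φ : (T ⊗[A] C) →ₐc[T] T ⊗[A] B)
    (h : ∀ c : C, ∃ b : B, φ ((1 : T) ⊗ₜ[A] c) = (1 : T) ⊗ₜ[A] b) :
    ∃ ψ : C →ₐc[A] B, ∀ c : C, φ ((1 : T) ⊗ₜ[A] c) = (1 : T) ⊗ₜ[A] ψ c := by
  choose f hf using h
  let f₀ : C →ₐ[A] B :=
    { toFun := f
      map_one' := one_tmul_injective T (by rw [← hf, ← Algebra.TensorProduct.one_def, map_one]; rfl)
      map_mul' := fun x y => one_tmul_injective T (by
        rw [← hf, show (1 : T) ⊗ₜ[A] (f x * f y) = ((1 : T) ⊗ₜ[A] f x) * ((1 : T) ⊗ₜ[A] f y) by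
          rw [Algebra.TensorProduct.tmul_mul_tmul, one_mul], ← hf, ← hf, ← map_mul, Algebra.TensorProduct.tmul_mul_tmul, one_mul])
      map_zero' := one_tmul_injective T (by rw [← hf, TensorProduct.tmul_zero, TensorProduct.tmul_zero, map_zero])
      map_add' := fun x y => one_tmul_injective T (by rw [← hf, TensorProduct.tmul_add, map_add, hf, hf, ← TensorProduct.tmul_add])
      commutes' := fun r => one_tmul_injective T (by
        rw [← hf]
        simp only [Algebra.algebraMap_eq_smul_one, TensorProduct.tmul_smul, ← Algebra.TensorProduct.one_def]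
        rw [← algebraMap_smul T r, map_smul, map_one, algebraMap_smul]) }
  have hf₀ : ∀ c, φ ((1 : T) ⊗ₜ[A] c) = (1 : T) ⊗ₜ[A] f₀ c := hf
  refine ⟨BialgHom.ofAlgHom f₀ ?_ ?_, hf₀⟩
  · refine AlgHom.ext fun c => ?_
    show CoalgebraStruct.counit (R := A) (f₀ c) = CoalgebraStruct.counit (R := A) c
    have h1 := CoalgHomClass.counit_comp_apply φ ((1 : T) ⊗ₜ[A] c)
    rw [hf₀, TensorProduct.counit_tmul, TensorProduct.counit_tmul, CommSemiring.counit_apply,
      ← Algebra.algebraMap_eq_smul_one, ← Algebra.algebraMap_eq_smul_one] at h1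
    exact FaithfulSMul.algebraMap_injective A T h1
  · refine AlgHom.ext fun c => ?_
    show Algebra.TensorProduct.map f₀ f₀ (CoalgebraStruct.comul (R := A) c) = CoalgebraStruct.comul (R := A) (f₀ c)
    let θ : (T ⊗[A] B) ⊗[T] (T ⊗[A] B) ≃ₗ[T] T ⊗[A] (B ⊗[A] B) :=
      (TensorProduct.AlgebraTensorModule.cancelBaseChange A T T (T ⊗[A] B) B).trans
        (TensorProduct.AlgebraTensorModule.assoc A A T T B B)
    have hB : ∀ b : B, θ (CoalgebraStruct.comul (R := T) ((1 : T) ⊗ₜ[A] b)) = (1 : T) ⊗ₜ[A] CoalgebraStruct.comul (R := A) b := by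
      intro b
      rw [TensorProduct.comul_tmul, Bialgebra.comul_one, Algebra.TensorProduct.one_def]
      generalize CoalgebraStruct.comul (R := A) b = z
      induction z using TensorProduct.induction_on with
      | zero => simp
      | add p q hp hq => simp only [map_add, TensorProduct.tmul_add, hp, hq]
      | tmul p q => simp [θ]
    refine one_tmul_injective (A := A) T (N := B ⊗[A] B) ?_
    rw [← hB, ← hf₀, ← CoalgHomClass.map_comp_comul_apply φ, TensorProduct.comul_tmul, Bialgebra.comul_one,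
      Algebra.TensorProduct.one_def]
    generalize CoalgebraStruct.comul (R := A) c = z
    induction z using TensorProduct.induction_on with
    | zero => simp
    | add p q hp hq => simp only [map_add, TensorProduct.tmul_add, hp, hq]
    | tmul p q => simp [θ, hf₀]

set_option maxHeartbeats 1600000 in
set_option synthInstance.maxHeartbeats 200000 in
/-- A homomorphism over the completion is defined over the henselian ring. -/
theorem exists_hom_of_complete {A : Type u} [CommRing A] [IsNoetherianRing A] [HenselianLocalRing A] {T : Type u} [CommRing T]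
    [IsLocalRing T] [IsNoetherianRing T] [Algebra A T] [IsLocalHom (algebraMap A T)] [Module.FaithfullyFlat A T]
    [IsAdicComplete (maximalIdeal T) T]
    (ρ : T →ₐ[A] ResidueField A) (hρs : Function.Surjective ρ) (hρk : RingHom.ker ρ = maximalIdeal T)
    {B : Type u} [CommRing B] [HopfAlgebra A B] (hBft : Algebra.FiniteType A B) (hB : SGA3b.IsMultType A B)
    {C : Type u} [CommRing C] [HopfAlgebra A C] (hft : Algebra.FiniteType A C)
    (hfl : ∀ (q : Ideal C) [q.IsPrime], Ideal.map (algebraMap A C) (maximalIdeal A) ≤ q → Module.Flat A (Localization.AtPrime q))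
    (hs : SGA3b.IsMultType (ResidueField A) (ResidueField A ⊗[A] C))
    (φ : (T ⊗[A] C) →ₐc[T] T ⊗[A] B) :
    ∃ ψ : C →ₐc[A] B, ∀ c : C, φ ((1 : T) ⊗ₜ[A] c) = (1 : T) ⊗ₜ[A] ψ c := by
  haveI := hft
  have hflT : ∀ (q : Ideal (T ⊗[A] C)) [q.IsPrime], Ideal.map (algebraMap T (T ⊗[A] C)) (maximalIdeal T) ≤ q →
      Module.Flat T (Localization.AtPrime q) := by
    intro q _ hq
    refine flat_tensor_atPrime q (hfl _ ?_)
    rw [Ideal.map_le_iff_le_comap]
    intro a ha
    show (Algebra.TensorProduct.includeRight : C →ₐ[A] T ⊗[A] C) (algebraMap A C a) ∈ q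
    rw [AlgHom.commutes, IsScalarTower.algebraMap_apply A T (T ⊗[A] C)]
    exact hq (Ideal.mem_map_of_mem _ ((IsLocalRing.mem_maximalIdeal _).mpr fun hu =>
      (IsLocalRing.mem_maximalIdeal _).mp ha (isUnit_of_map_unit (algebraMap A T) a hu)))
  obtain ⟨e, he, hem, hH, hQ⟩ := Groth.Agent.S5285.result T (maximalIdeal T) (T ⊗[A] C) inferInstance hflT
    (isIsotrivial_closedFibre A T hft hs)
  haveI := hH
  obtain ⟨SB, _, _, _, _, hffB, M, _, ⟨eB⟩⟩ := Groth.Agent.S2974.result A B hBft hB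
  haveI := hffB
  haveI : Nontrivial SB := (FaithfulSMul.algebraMap_injective A SB).nontrivial
  haveI : Group.FG M := fg_of_finiteType hBft eB
  have hφe : φ e = 0 := map_idem_eq_zero hBft hB eB (φ : (T ⊗[A] C) →ₐ[T] T ⊗[A] B) he hem
  exact exists_bialgHom_of_values φ fun c => mem_range_of_forall_torsion eB _ fun n hn =>
    exists_descend_torsion ρ hρs hρk hBft hB hft hs e he hem hQ φ hφe n hn c

end Groth.Agent.H83.Complete
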