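import Groth.Agent.H83.Quasi.Global
import Groth.Agent.Lib.OT67.Eigen
import Mathlib

/-! Naturality of the torsion ideals; homomorphisms under base change; descent of Hopf ideals. -/

set_option autoImplicit false

universe u

open TensorProduct WithConv

namespace Groth.Agent.H83.Complete

open MultType

theorem map_powConv_bialgHom {R : Type u} [CommRing R] {A B : Type u} [CommRing A] [HopfAlgebra R A] [CommRing B]
    [HopfAlgebra R B] (φ : A →ₐc[R] B) (n : ℕ) (a : A) :
    φ (SGA3b.powConv R A n a) = SGA3b.powConv R B n (φ a) := by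
  suffices h : (φ : A →ₐ[R] B).comp (SGA3b.powConv R A n) = (SGA3b.powConv R B n).comp (φ : A →ₐ[R] B) from
    DFunLike.congr_fun h a
  rw [SGA3b.powConv, Groth.Agent.Lib.OT67.comp_pow, ofConv_toConv, AlgHom.comp_id, SGA3b.powConv]
  clear a
  induction n with
  | zero =>
    refine AlgHom.ext fun c => ?_
    show algebraMap R B (CoalgebraStruct.counit c) = algebraMap R B (CoalgebraStruct.counit (φ c))
    rw [CoalgHomClass.counit_comp_apply]
  | succ n ih =>
    rw [pow_succ, pow_succ, AlgHom.convMul_comp_bialgHom_distrib]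
    simp only [ofConv_toConv, AlgHom.id_comp]
    rw [← ih]

theorem map_torsion_le {R : Type u} [CommRing R] {A B : Type u} [CommRing A] [HopfAlgebra R A] [CommRing B]
    [HopfAlgebra R B] (φ : A →ₐc[R] B) (n : ℕ) :
    (SGA3b.torsionIdeal R A n).map (φ : A →ₐ[R] B) ≤ SGA3b.torsionIdeal R B n := by
  rw [SGA3b.torsionIdeal, Ideal.map_le_iff_le_comap, Ideal.map_le_iff_le_comap]
  intro a ha
  rw [RingHom.mem_ker] at ha
  show φ (SGA3b.powConv R A n a) ∈ Ideal.map (SGA3b.powConv R B n) (RingHom.ker (Bialgebra.counitAlgHom R B))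
  rw [map_powConv_bialgHom]
  refine Ideal.mem_map_of_mem _ ?_
  rw [RingHom.mem_ker]
  show CoalgebraStruct.counit (φ a) = 0
  rw [CoalgHomClass.counit_comp_apply]
  exact ha

theorem torsion_map_surjective {R : Type u} [CommRing R] {A B : Type u} [CommRing A] [HopfAlgebra R A] [CommRing B]
    [HopfAlgebra R B] (φ : A →ₐc[R] B) (hφ : Function.Surjective φ) (n : ℕ) :
    SGA3b.torsionIdeal R B n = (SGA3b.torsionIdeal R A n).map (φ : A →ₐ[R] B) := by
  refine le_antisymm ?_ (map_torsion_le φ n)
  rw [SGA3b.torsionIdeal, Ideal.map_le_iff_le_comap]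
  intro b hb
  obtain ⟨a, rfl⟩ := hφ b
  rw [RingHom.mem_ker] at hb
  rw [Ideal.mem_comap, ← map_powConv_bialgHom]
  refine Ideal.mem_map_of_mem _ (Ideal.mem_map_of_mem _ ?_)
  rw [RingHom.mem_ker]
  exact (CoalgHomClass.counit_comp_apply φ a).symm.trans hb

theorem torsion_baseChange {R : Type u} [CommRing R] {C : Type u} [CommRing C] [HopfAlgebra R C] (T : Type u) [CommRing T]
    [Algebra R T] (n : ℕ) :
    SGA3b.torsionIdeal T (T ⊗[R] C) n =
      (SGA3b.torsionIdeal R C n).map (Algebra.TensorProduct.includeRight : C →ₐ[R] T ⊗[R] C) := by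
  refine le_antisymm ?_ (Quasi.torsion_map T n)
  rw [SGA3b.torsionIdeal, Ideal.map_le_iff_le_comap]
  intro x hx
  rw [RingHom.mem_ker] at hx
  have key : ∀ y : T ⊗[R] C, SGA3b.powConv T (T ⊗[R] C) n (y - algebraMap T (T ⊗[R] C) (CoalgebraStruct.counit (R := T) y)) ∈
      (SGA3b.torsionIdeal R C n).map (Algebra.TensorProduct.includeRight : C →ₐ[R] T ⊗[R] C) := by
    intro y
    induction y using TensorProduct.induction_on with
    | zero => simp
    | add a b ha hb =>
      have h := Ideal.add_mem _ ha hb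
      rw [← map_add] at h
      convert h using 2
      simp only [map_add]; ring
    | tmul t c =>
      have h1 : t ⊗ₜ[R] c - algebraMap T (T ⊗[R] C) (CoalgebraStruct.counit (R := T) (t ⊗ₜ[R] c)) =
          t ⊗ₜ[R] (c - algebraMap R C (CoalgebraStruct.counit c)) := by
        rw [TensorProduct.counit_tmul, CommSemiring.counit_apply, TensorProduct.tmul_sub, Algebra.algebraMap_eq_smul_one (A := C),
          ← TensorProduct.smul_tmul, Algebra.TensorProduct.algebraMap_apply]
        rfl
      rw [h1, Groth.Agent.Lib.H58Versch.powConv_tmul,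
        show t ⊗ₜ[R] SGA3b.powConv R C n (c - algebraMap R C (CoalgebraStruct.counit c)) =
          (t ⊗ₜ[R] (1 : C)) * (1 : T) ⊗ₜ[R] SGA3b.powConv R C n (c - algebraMap R C (CoalgebraStruct.counit c)) by
          rw [Algebra.TensorProduct.tmul_mul_tmul, one_mul, mul_one]]
      refine Ideal.mul_mem_left _ _ (Ideal.mem_map_of_mem
        (Algebra.TensorProduct.includeRight : C →ₐ[R] T ⊗[R] C) ?_)
      refine Ideal.mem_map_of_mem _ ?_
      rw [RingHom.mem_ker]
      simp
  have h := key x
  rwa [show CoalgebraStruct.counit (R := T) x = 0 from hx, map_zero, sub_zero] at h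

/-- Extension of scalars of a homomorphism between base changes. -/
theorem exists_hom_baseChange {R : Type u} [CommRing R] {C D : Type u} [CommRing C] [HopfAlgebra R C] [CommRing D]
    [HopfAlgebra R D] {T U : Type u} [CommRing T] [Algebra R T] [CommRing U] [Algebra R U] (f : T →ₐ[R] U)
    (g : (T ⊗[R] C) →ₐc[T] (T ⊗[R] D)) :
    ∃ gU : (U ⊗[R] C) →ₐc[U] (U ⊗[R] D), ∀ c, gU ((1 : U) ⊗ₜ[R] c) = coeffMap f (g ((1 : T) ⊗ₜ[R] c)) := by
  letI : Algebra T U := f.toRingHom.toAlgebra
  haveI : IsScalarTower R T U := IsScalarTower.of_algebraMap_eq fun r => (f.commutes r).symm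
  obtain ⟨UC, hUC⟩ := exists_towerEquiv R T U C
  obtain ⟨UD, hUD⟩ := exists_towerEquiv R T U D
  refine ⟨((UD.symm : (U ⊗[T] (T ⊗[R] D)) →ₐc[U] U ⊗[R] D).comp
    (Bialgebra.TensorProduct.map (BialgHom.id U U) g)).comp (UC : (U ⊗[R] C) →ₐc[U] U ⊗[T] (T ⊗[R] C)), fun c => ?_⟩
  show UD.symm (Bialgebra.TensorProduct.map (BialgHom.id U U) g (UC ((1 : U) ⊗ₜ[R] c))) = _
  rw [hUC, Bialgebra.TensorProduct.map_tmul]
  show UD.symm ((1 : U) ⊗ₜ[T] g ((1 : T) ⊗ₜ[R] c)) = _
  generalize g ((1 : T) ⊗ₜ[R] c) = y
  induction y using TensorProduct.induction_on with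
  | zero => simp
  | add a b ha hb => rw [TensorProduct.tmul_add, map_add, map_add, ha, hb]
  | tmul t d =>
    rw [show (1 : U) ⊗ₜ[T] (t ⊗ₜ[R] d) = f t ⊗ₜ[T] ((1 : T) ⊗ₜ[R] d) by
      rw [show t ⊗ₜ[R] d = t • ((1 : T) ⊗ₜ[R] d) by rw [TensorProduct.smul_tmul', smul_eq_mul, mul_one],
        ← TensorProduct.smul_tmul, Algebra.smul_def, mul_one]; rfl, ← hUD,
      show UD.symm (UD (f t ⊗ₜ[R] d)) = _ from UD.symm_apply_apply _]
    simp [coeffMap]

/-- A Hopf ideal descends along a faithfully flat extension. -/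
theorem isHopfIdeal_descent {R : Type u} [CommRing R] {C : Type u} [CommRing C] [HopfAlgebra R C] (T : Type u) [CommRing T]
    [Algebra R T] [Module.FaithfullyFlat R T] (a : Ideal C) (K : Ideal (T ⊗[R] C)) [K.IsHopfIdeal T]
    (hK : K = a.map (Algebra.TensorProduct.includeRight : C →ₐ[R] T ⊗[R] C)) : a.IsHopfIdeal R := by
  have hmem : ∀ c, (1 : T) ⊗ₜ[R] c ∈ K → c ∈ a := by
    intro c hc
    have h0 : Algebra.TensorProduct.map (AlgHom.id T T) (Ideal.Quotient.mkₐ R a) ((1 : T) ⊗ₜ[R] c) = 0 := by
      rw [hK] at hc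
      have : a.map (Algebra.TensorProduct.includeRight : C →ₐ[R] T ⊗[R] C) ≤
          RingHom.ker (Algebra.TensorProduct.map (AlgHom.id T T) (Ideal.Quotient.mkₐ R a)) := by
        rw [Ideal.map_le_iff_le_comap]
        intro x hx
        rw [Ideal.mem_comap, RingHom.mem_ker]
        simp [Ideal.Quotient.eq_zero_iff_mem.mpr hx]
      exact this hc
    rw [Algebra.TensorProduct.map_tmul, map_one] at h0
    have h1 := Module.FaithfullyFlat.tensorProduct_mk_injective (A := R) (B := T) (C ⧸ a)
      (a₁ := Ideal.Quotient.mk a c) (a₂ := 0) (by simpa using h0)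
    exact Ideal.Quotient.eq_zero_iff_mem.mp h1
  have hsub : ∀ x ∈ a, (1 : T) ⊗ₜ[R] x ∈ K := fun x hx => hK ▸ Ideal.mem_map_of_mem _ hx
  refine { counit_eq_zero := fun x hx => ?_, map_mkQ_comul_eq_zero := fun x hx => ?_, antipode_mem := fun x hx => ?_ }
  · have h := Submodule.IsCoideal.counit_eq_zero (R := T) (show (1 : T) ⊗ₜ[R] x ∈ K.restrictScalars T from hsub x hx)
    rw [TensorProduct.counit_tmul, CommSemiring.counit_apply, ← Algebra.algebraMap_eq_smul_one] at h
    exact (FaithfulSMul.algebraMap_injective R T) (h.trans (map_zero _).symm)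
  · have h := Submodule.IsCoideal.map_mkQ_comul_eq_zero (R := T) (show (1 : T) ⊗ₜ[R] x ∈ K.restrictScalars T from hsub x hx)
    let Q := C ⧸ (a.restrictScalars R)
    have hzero : ∀ y ∈ K, LinearMap.baseChange T (a.restrictScalars R).mkQ y = 0 := by
      intro y hy
      rw [hK, Ideal.map] at hy
      suffices hz : ∀ z : T ⊗[R] C, LinearMap.baseChange T (a.restrictScalars R).mkQ (z * y) = 0 from by
        simpa using hz 1
      induction hy using Submodule.span_induction with
      | mem w hw =>
        obtain ⟨x, hxa, rfl⟩ := hw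
        intro z
        induction z using TensorProduct.induction_on with
        | zero => simp
        | add p q hp hq => rw [add_mul, map_add, hp, hq, add_zero]
        | tmul t c =>
          rw [Algebra.TensorProduct.includeRight_apply, Algebra.TensorProduct.tmul_mul_tmul, LinearMap.baseChange_tmul,
            Submodule.mkQ_apply, (Submodule.Quotient.mk_eq_zero _).mpr
              (show c * x ∈ a.restrictScalars R from a.mul_mem_left c hxa), TensorProduct.tmul_zero]
      | zero => intro z; simp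
      | add p q _ _ hp hq => intro z; rw [mul_add, map_add, hp, hq, add_zero]
      | smul r p _ hp => intro z; rw [smul_eq_mul, ← mul_assoc]; exact hp (z * r)
    let l : ((T ⊗[R] C) ⧸ K.restrictScalars T) →ₗ[T] T ⊗[R] Q :=
      (K.restrictScalars T).liftQ (LinearMap.baseChange T (a.restrictScalars R).mkQ) fun y hy => LinearMap.mem_ker.mpr (hzero y hy)
    let θ : (T ⊗[R] Q) ⊗[T] (T ⊗[R] Q) ≃ₗ[T] T ⊗[R] (Q ⊗[R] Q) :=
      (TensorProduct.AlgebraTensorModule.cancelBaseChange R T T (T ⊗[R] Q) Q).trans
        (TensorProduct.AlgebraTensorModule.assoc R R T T Q Q)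
    have key : ∀ z : C ⊗[R] C, θ (TensorProduct.map l l
        (TensorProduct.map (K.restrictScalars T).mkQ (K.restrictScalars T).mkQ
          (TensorProduct.map (TensorProduct.mk R T C 1) (TensorProduct.mk R T C 1) z |>
            (TensorProduct.lift ((TensorProduct.mk T (T ⊗[R] C) (T ⊗[R] C)).restrictScalars₁₂ R R))))) =
        (1 : T) ⊗ₜ[R] TensorProduct.map (a.restrictScalars R).mkQ (a.restrictScalars R).mkQ z := by
      intro z
      induction z using TensorProduct.induction_on with
      | zero => simp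
      | add p q hp hq => simp only [map_add, TensorProduct.tmul_add, hp, hq]
      | tmul c d => simp [l, θ, Q]
    have hcomul : CoalgebraStruct.comul (R := T) ((1 : T) ⊗ₜ[R] x) =
        TensorProduct.lift ((TensorProduct.mk T (T ⊗[R] C) (T ⊗[R] C)).restrictScalars₁₂ R R)
          (TensorProduct.map (TensorProduct.mk R T C 1) (TensorProduct.mk R T C 1) (CoalgebraStruct.comul (R := R) x)) := by
      rw [TensorProduct.comul_tmul, Bialgebra.comul_one, Algebra.TensorProduct.one_def]
      generalize CoalgebraStruct.comul (R := R) x = z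
      induction z using TensorProduct.induction_on with
      | zero => simp
      | add p q hp hq => simp only [map_add, TensorProduct.tmul_add, hp, hq]
      | tmul c d => simp
    have h2 := key (CoalgebraStruct.comul (R := R) x)
    rw [← hcomul, h, map_zero, map_zero] at h2
    exact Module.FaithfullyFlat.tensorProduct_mk_injective (A := R) (B := T) _ (h2.symm.trans (TensorProduct.tmul_zero _ _).symm)
  · apply hmem
    have h := Ideal.IsHopfIdeal.antipode_mem (R := T) (hsub x hx)
    simpa [TensorProduct.antipode_def] using h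

end Groth.Agent.H83.Complete
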